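import Mathlib
import Groth.Prelude.Def_GrSyz
import Groth.Agent.SegreDim.CMUnmixed
import Groth.Agent.SegreDim.QuotGrading
import Groth.Agent.GrLib.Std
import Groth.Agent.DimLib.Algebra
import Groth.Agent.LocCoh.Gorenstein

/-!
# Associated primes of homogeneous ideals with Cohen–Macaulay quotient in a polynomial ring
-/

set_option autoImplicit false

universe u

open MvPolynomial

namespace Groth.Agent.Liaison28

variable {K : Type u} [Field K] {n : ℕ}

local notation "S" => MvPolynomial (Fin (n + 1)) K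

theorem smul_quot (c : Ideal S) (r : S) (x : S ⧸ c) : r • x = Ideal.Quotient.mk c r * x := by
  obtain ⟨x, rfl⟩ := Ideal.Quotient.mk_surjective x
  rfl

theorem stdGr_zero : GrSyz.stdGr K (Fin (n + 1)) 0 = Submodule.span K {(1 : S)} := by
  refine le_antisymm (fun p hp => ?_) ?_
  · rw [GrSyz.mem_stdGr_iff] at hp
    have : p = C (p.coeff 0) := by
      refine MvPolynomial.ext _ _ fun d => ?_
      rw [coeff_C]
      split_ifs with h
      · rw [h]
      · by_contra hd
        have h2 := hp hd
        refine h (Finsupp.ext fun i => ?_).symm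
        rw [Finsupp.weight_apply, Finsupp.sum_fintype _ _ (by simp)] at h2
        have h3 := (Finset.sum_eq_zero_iff_of_nonneg (fun j _ => by simp)).mp h2 i (Finset.mem_univ i)
        simpa using h3
    rw [this, Submodule.mem_span_singleton]
    exact ⟨p.coeff 0, by rw [Algebra.smul_def, mul_one]; rfl⟩
  · rw [Submodule.span_le, Set.singleton_subset_iff]
    exact SetLike.one_mem_graded _

variable {c : Ideal (MvPolynomial (Fin (n + 1)) K)} (hc : c.IsHomogeneous (GrSyz.stdGr K (Fin (n + 1))))

theorem map_mem_associatedPrimes {p : Ideal S} (hp : p ∈ associatedPrimes S (S ⧸ c)) :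
    c ≤ p ∧ p.map (Ideal.Quotient.mk c) ∈ associatedPrimes (S ⧸ c) (S ⧸ c) := by
  obtain ⟨hprime, x, hx⟩ := isAssociatedPrime_iff.mp hp
  have hmem : ∀ r, r ∈ p ↔ Ideal.Quotient.mk c r * x = 0 := fun r => by
    rw [hx, Submodule.mem_colon_singleton, Submodule.mem_bot, smul_quot]
  have hle : c ≤ p := fun r hr => (hmem r).mpr (by rw [Ideal.Quotient.eq_zero_iff_mem.mpr hr, zero_mul])
  refine ⟨hle, isAssociatedPrime_iff.mpr ⟨Ideal.map_isPrime_of_surjective Ideal.Quotient.mk_surjective
    (by rwa [Ideal.mk_ker]), x, ?_⟩⟩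
  ext y
  obtain ⟨r, rfl⟩ := Ideal.Quotient.mk_surjective y
  rw [Submodule.mem_colon_singleton, Submodule.mem_bot, smul_eq_mul, ← hmem,
    Ideal.mem_quotient_iff_mem hle]

theorem mem_associatedPrimes_of_minimal {p : Ideal S} (hp : p ∈ (Ideal.minimalPrimes c)) :
    p ∈ associatedPrimes S (S ⧸ c) :=
  Module.associatedPrimes.minimalPrimes_annihilator_subset_associatedPrimes S (S ⧸ c)
    (by rwa [Ideal.annihilator_quotient])

include hc in
theorem height_add_eq [LocCoh.IsCohenMacaulayRing (S ⧸ c)] {p : Ideal S} (hp : p ∈ associatedPrimes S (S ⧸ c)) :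
    (p.height : WithBot ℕ∞) + ringKrullDim (S ⧸ c) = ((n + 1 : ℕ) : WithBot ℕ∞) := by
  obtain ⟨hle, hP⟩ := map_mem_associatedPrimes hp
  haveI : p.IsPrime := IsAssociatedPrime.isPrime hp
  haveI : IsNoetherianRing (S ⧸ c) := inferInstance
  letI := SegreDim.quotGradedAlgebra (GrSyz.stdGr K (Fin (n + 1))) hc
  have hpos : ∀ m : ℤ, m < 0 → SegreDim.quotGrading (GrSyz.stdGr K (Fin (n + 1))) c m = ⊥ := fun m hm => by
    rw [SegreDim.quotGrading, Submodule.eq_bot_iff]
    rintro _ ⟨a, ha, rfl⟩
    rw [GrLib.stdGr_eq_zero_of_neg K (n + 1) m hm a ha, map_zero]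
  have h0 : SegreDim.quotGrading (GrSyz.stdGr K (Fin (n + 1))) c 0 = Submodule.span K {(1 : S ⧸ c)} := by
    rw [SegreDim.quotGrading, stdGr_zero, Submodule.map_span, Set.image_singleton]
    simp
  have hcm : ∀ (q : Ideal (S ⧸ c)) [q.IsPrime], Subsingleton (LocalizedModule q.primeCompl (S ⧸ c)) ∨
      LocCoh.IsCohenMacaulayModule (Localization.AtPrime q) (LocalizedModule q.primeCompl (S ⧸ c)) := fun q _ => by
    refine Or.inr ?_
    haveI := LocCoh.IsCohenMacaulayRing.isCohenMacaulayLocalRing_localization (R := S ⧸ c) q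
    rw [CAlgH3.isCohenMacaulayModule_congr (CAlgH3.localizedModuleSelf q), ← CAlgH3.isCohenMacaulayLocalRing_iff]
    infer_instance
  have h1 := SegreDim.ringKrullDim_quotient_eq_supportDim_of_cm (SegreDim.quotGrading (GrSyz.stdGr K (Fin (n + 1))) c)
    hpos h0 (SegreDim.quotGrading (GrSyz.stdGr K (Fin (n + 1))) c) hcm hP
  rw [Module.supportDim_self_eq_ringKrullDim] at h1
  rw [← h1, ringKrullDim_eq_of_ringEquiv (DoubleQuot.quotQuotEquivQuotOfLE hle),
    DimLib.height_add_ringKrullDim_quotient (k := K), MvPolynomial.ringKrullDim_of_isNoetherianRing,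
    ringKrullDim_eq_zero_of_field]
  simp

include hc in
theorem height_eq_height [LocCoh.IsCohenMacaulayRing (S ⧸ c)] {p : Ideal S} (hp : p ∈ associatedPrimes S (S ⧸ c)) :
    p.height = c.height := by
  haveI : p.IsPrime := IsAssociatedPrime.isPrime hp
  haveI : Nontrivial (S ⧸ c) := by
    by_contra h
    rw [not_nontrivial_iff_subsingleton] at h
    exact not_isAssociatedPrime_of_subsingleton hp
  have key : ∀ q ∈ c.minimalPrimes, q.height = p.height := fun q hq => by
    haveI := hq.isPrime
    have h1 := height_add_eq hc (mem_associatedPrimes_of_minimal hq)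
    have h2 := height_add_eq hc hp
    obtain ⟨a, ha⟩ := ENat.ne_top_iff_exists.1 (Ideal.height_ne_top_of_isPrime (I := q))
    obtain ⟨b, hb⟩ := ENat.ne_top_iff_exists.1 (Ideal.height_ne_top_of_isPrime (I := p))
    rw [← ha] at h1 ⊢
    rw [← hb] at h2 ⊢
    obtain ⟨d, hd⟩ : ∃ d : ℕ, ringKrullDim (S ⧸ c) = d := by
      have hnb : ringKrullDim (S ⧸ c) ≠ ⊥ := fun h => by
        have := ringKrullDim_nonneg_of_nontrivial (R := S ⧸ c)
        rw [h] at this; exact absurd this (by simp)
      obtain ⟨e, he⟩ := WithBot.ne_bot_iff_exists.mp hnb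
      induction e using ENat.recTopCoe with
      | top => rw [← he] at h1; rw [← WithBot.coe_add, add_top] at h1; exact absurd (WithBot.coe_inj.mp h1.symm) (ENat.coe_ne_top _)
      | coe d => exact ⟨d, he.symm⟩
    rw [hd] at h1 h2
    have h3 : ((a + d : ℕ) : WithBot ℕ∞) = ((b + d : ℕ) : WithBot ℕ∞) := by push_cast; exact h1.trans h2.symm
    have h4 : a + d = b + d := by exact_mod_cast h3
    rw [show a = b by omega]
  obtain ⟨q, hq, -⟩ := Ideal.exists_minimalPrimes_le (I := c) (J := p) (map_mem_associatedPrimes hp).1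
  conv_rhs => rw [Ideal.height_eq_inf_minimalPrimes]
  exact le_antisymm (le_iInf₂ fun q hq => (key q hq).ge) (iInf₂_le_of_le q hq (key q hq).le)

include hc in
theorem mem_minimalPrimes [LocCoh.IsCohenMacaulayRing (S ⧸ c)] {p : Ideal S} (hp : p ∈ associatedPrimes S (S ⧸ c)) :
    p ∈ c.minimalPrimes := by
  haveI : p.IsPrime := IsAssociatedPrime.isPrime hp
  exact Ideal.mem_minimalPrimes_of_height_le (map_mem_associatedPrimes hp).1 (height_eq_height hc hp).le

theorem cm_of_gorenstein (A : Type u) [CommRing A] [LocCoh.IsGorensteinRing A] : LocCoh.IsCohenMacaulayRing A :=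
  { (inferInstance : IsNoetherianRing A) with
    isCohenMacaulayLocalRing_localization := fun p _ => by
      haveI := LocCoh.IsGorensteinRing.isGorensteinLocalRing_localization (A := A) p
      exact LocCoh.isCohenMacaulayLocalRing_of_gorenstein }

variable {I J : Ideal (MvPolynomial (Fin (n + 1)) K)}

omit hc in
theorem le_colon (c I : Ideal S) : c ≤ c.colon (I : Set S) := fun x hx => by
  rw [Submodule.mem_colon]
  exact fun i _ => c.mul_mem_right i hx

include hc in
theorem inf_eq_of_linked [LocCoh.IsGorensteinRing (S ⧸ c)] (hIJ : c.colon (I : Set S) = J)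
    (hJI : c.colon (J : Set S) = I) (hdisj : Disjoint (associatedPrimes S (S ⧸ I)) (associatedPrimes S (S ⧸ J))) :
    I ⊓ J = c := by
  haveI := cm_of_gorenstein (S ⧸ c)
  have hcI : c ≤ I := hJI ▸ le_colon c J
  have hcJ : c ≤ J := hIJ ▸ le_colon c I
  refine le_antisymm (fun x hx => ?_) (le_inf hcI hcJ)
  by_contra hxc
  obtain ⟨p, hp, hle⟩ := exists_le_isAssociatedPrime_of_isNoetherianRing S (Ideal.Quotient.mk c x)
    (by rwa [Ne, Ideal.Quotient.eq_zero_iff_mem])
  haveI := hp.isPrime
  have hmem : ∀ r, r * x ∈ c → r ∈ p := fun r hr => hle (by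
    rw [Submodule.mem_colon_singleton, Submodule.mem_bot, smul_quot,
      ← map_mul, Ideal.Quotient.eq_zero_iff_mem]
    exact hr)
  have hIp : I ≤ p := fun i hi => hmem i (by
    have h : x ∈ c.colon (I : Set S) := hIJ.symm ▸ (hx.2 : x ∈ J)
    rw [Submodule.mem_colon] at h
    rw [mul_comm]; exact h i hi)
  have hJp : J ≤ p := fun i hi => hmem i (by
    have h : x ∈ c.colon (J : Set S) := hJI.symm ▸ (hx.1 : x ∈ I)
    rw [Submodule.mem_colon] at h
    rw [mul_comm]; exact h i hi)
  have hmin := mem_minimalPrimes hc hp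
  exact Set.disjoint_left.mp hdisj
    (mem_associatedPrimes_of_minimal ⟨⟨inferInstance, hIp⟩, fun q hq hqp => hmin.2 ⟨hq.1, hcI.trans hq.2⟩ hqp⟩)
    (mem_associatedPrimes_of_minimal ⟨⟨inferInstance, hJp⟩, fun q hq hqp => hmin.2 ⟨hq.1, hcJ.trans hq.2⟩ hqp⟩)

include hc in
theorem colon_unmixed [LocCoh.IsGorensteinRing (S ⧸ c)] (hI : ¬ I ≤ c) :
    (c.colon (I : Set S)).height = c.height ∧
      ∀ p ∈ associatedPrimes S (S ⧸ c.colon (I : Set S)), p.height = c.height := by
  haveI := cm_of_gorenstein (S ⧸ c)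
  have key : ∀ p ∈ associatedPrimes S (S ⧸ c.colon (I : Set S)), p ∈ associatedPrimes S (S ⧸ c) := by
    intro p hp
    obtain ⟨hprime, y, hy⟩ := isAssociatedPrime_iff.mp hp
    obtain ⟨x, rfl⟩ := Ideal.Quotient.mk_surjective y
    obtain ⟨s, hs⟩ := (IsNoetherian.noetherian I : (I : Submodule S S).FG)
    have hp_eq : ∀ r, r ∈ p ↔ ∀ g ∈ s, r * x * g ∈ c := fun r => by
      rw [hy, Submodule.mem_colon_singleton, Submodule.mem_bot, smul_quot,
        ← map_mul, Ideal.Quotient.eq_zero_iff_mem, Submodule.mem_colon]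
      refine ⟨fun h g hg => h g (hs ▸ Submodule.subset_span hg), fun h i hi => ?_⟩
      have : I ≤ c.colon {r * x} := by
        rw [← hs]
        refine Submodule.span_le.mpr fun g hg => ?_
        rw [SetLike.mem_coe, Submodule.mem_colon_singleton, smul_eq_mul, mul_comm]
        exact h g hg
      have h2 := this hi
      rw [Submodule.mem_colon_singleton, smul_eq_mul, mul_comm] at h2
      exact h2
    have hinf : (s.inf fun g => c.colon {x * g}) ≤ p := fun r hr => (hp_eq r).mpr fun g hg => by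
      have := (Submodule.mem_finsetInf.mp hr) g hg
      rwa [Submodule.mem_colon_singleton, smul_eq_mul, ← mul_assoc] at this
    obtain ⟨g, hg, hle⟩ := (Ideal.IsPrime.inf_le' hprime).mp hinf
    refine isAssociatedPrime_iff.mpr ⟨hprime, Ideal.Quotient.mk c (x * g), le_antisymm (fun r hr => ?_) fun r hr => hle ?_⟩
    · rw [Submodule.mem_colon_singleton, Submodule.mem_bot, smul_quot,
        ← map_mul, Ideal.Quotient.eq_zero_iff_mem, ← mul_assoc]
      exact (hp_eq r).mp hr g hg
    · rw [Submodule.mem_colon_singleton, Submodule.mem_bot, smul_quot,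
        ← map_mul, Ideal.Quotient.eq_zero_iff_mem] at hr
      rw [Submodule.mem_colon_singleton, smul_eq_mul]
      exact hr
  refine ⟨?_, fun p hp => height_eq_height hc (key p hp)⟩
  have hne : c.colon (I : Set S) ≠ ⊤ := fun h => hI fun i hi => by
    have h1 : (1 : S) ∈ c.colon (I : Set S) := h ▸ Submodule.mem_top
    rw [Submodule.mem_colon] at h1
    simpa using h1 i hi
  obtain ⟨m, hm, hmI⟩ := Ideal.exists_le_maximal _ hne
  haveI := hm.isPrime
  obtain ⟨q, hq, -⟩ := Ideal.exists_minimalPrimes_le hmI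
  rw [Ideal.height_eq_inf_minimalPrimes]
  exact le_antisymm (iInf₂_le_of_le q hq (height_eq_height hc (key q (mem_associatedPrimes_of_minimal hq))).le)
    (le_iInf₂ fun q hq => (height_eq_height hc (key q (mem_associatedPrimes_of_minimal hq))).ge)

end Groth.Agent.Liaison28
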