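import Mathlib
import Groth.Agent.Liaison28.Basic

/-!
# Double colon ideals in Gorenstein rings; height of a basic double link
-/

set_option autoImplicit false

universe u

open IsLocalRing

namespace Groth.Agent.Liaison28

theorem mem_of_annihilator_annihilator {B : Type u} [CommRing B] [LocCoh.IsGorensteinLocalRing B]
    (hd : ringKrullDim B = 0) (I : Ideal B) {x : B} (hx : ∀ b : B, (∀ i ∈ I, b * i = 0) → x * b = 0) : x ∈ I := by
  classical
  haveI : IsNoetherianRing B := inferInstance
  haveI := Groth.Agent.LocCoh.hasInjectiveDimensionLT_gorenstein (R := B) (n := 0) (by simpa using hd)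
  haveI hinj : CategoryTheory.Injective (ModuleCat.of B B) :=
    CategoryTheory.injective_iff_hasInjectiveDimensionLT_one.2 (by simpa using this)
  haveI : Module.Injective B B := Module.injective_module_of_injective_object B B
  haveI : Ring.KrullDimLE 0 B := (Ring.krullDimLE_iff).mpr (by simp [hd])
  by_contra hxI
  -- a nonzero socle element
  obtain ⟨P, hP⟩ := associatedPrimes.nonempty B B
  haveI hPp : P.IsPrime := IsAssociatedPrime.isPrime hP
  have hPm : P = maximalIdeal B := IsLocalRing.eq_maximalIdeal (Ideal.IsPrime.isMaximal' hPp)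
  obtain ⟨_, e, he⟩ := isAssociatedPrime_iff.mp hP
  let x' : B ⧸ I := Submodule.Quotient.mk x
  let σ : B →ₗ[B] B ⧸ I := LinearMap.toSpanSingleton B _ x'
  have hker : LinearMap.ker σ ≤ LinearMap.ker (LinearMap.toSpanSingleton B B e) := by
    intro r hr
    rw [LinearMap.mem_ker, LinearMap.toSpanSingleton_apply] at hr ⊢
    have hrm : r ∈ maximalIdeal B := by
      by_contra h
      obtain ⟨v, rfl⟩ := IsLocalRing.notMem_maximalIdeal.1 h
      rw [← Submodule.Quotient.mk_smul, Submodule.Quotient.mk_eq_zero, smul_eq_mul] at hr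
      exact hxI (by simpa [← mul_assoc] using I.mul_mem_left (↑v⁻¹ : B) hr)
    rw [← hPm, he, Submodule.mem_colon_singleton, Submodule.mem_bot] at hrm
    exact hrm
  obtain ⟨φ, hφ⟩ := Module.Injective.out (Q := B) (Submodule.liftQ _ σ le_rfl)
    (LinearMap.ker_eq_bot.1 (Submodule.ker_liftQ_eq_bot _ _ _ le_rfl)) (Submodule.liftQ _ _ hker)
  have hval : φ x' = e := by
    have h1 := hφ (Submodule.Quotient.mk 1)
    change φ ((1 : B) • x') = (1 : B) • e at h1
    rwa [one_smul, one_smul] at h1
  have h2 := hx (φ (Submodule.Quotient.mk 1)) fun i hi => by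
    rw [mul_comm, ← smul_eq_mul, ← map_smul, ← Submodule.Quotient.mk_smul, smul_eq_mul, mul_one,
      (Submodule.Quotient.mk_eq_zero I).mpr hi, map_zero]
  rw [← smul_eq_mul, ← map_smul, ← Submodule.Quotient.mk_smul, smul_eq_mul, mul_one] at h2
  have he0 : e ≠ 0 := fun h => hPp.ne_top (by rw [he, h]; simp)
  exact he0 (hval ▸ h2)

theorem lc1 {B : Type*} [CommRing B] {b gs ga gi : B} (has : b * gs = ga) (h1 : b * gi = 0) : ga * gi = 0 := by
  linear_combination gs * h1 - gi * has

theorem lc2 {B : Type*} [CommRing B] {x T a b s : B} (h3 : x * T * a = 0) (has : b * s = a) :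
    x * b * (T * s) = 0 := by
  linear_combination h3 + x * T * has

open MvPolynomial

variable {K : Type u} [Field K] {n : ℕ}

local notation "S" => MvPolynomial (Fin (n + 1)) K

theorem colon_colon_eq {c : Ideal S} [LocCoh.IsGorensteinRing (S ⧸ c)] {I : Ideal S} (hle : c ≤ I)
    (hh : I.height = c.height) (hu : ∀ p ∈ associatedPrimes S (S ⧸ I), p.height = I.height) :
    c.colon ((c.colon (I : Set S) : Ideal S) : Set S) = I := by
  classical
  refine le_antisymm (fun x hx => ?_) fun i hi => ?_
  swap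
  · rw [Submodule.mem_colon]
    intro y hy
    have hy' : y ∈ c.colon (I : Set S) := hy
    rw [Submodule.mem_colon] at hy'
    rw [smul_eq_mul, mul_comm]
    exact hy' i hi
  by_contra hxI
  obtain ⟨q, hq, hqle⟩ := exists_le_isAssociatedPrime_of_isNoetherianRing S (Ideal.Quotient.mk I x)
    (by rwa [Ne, Ideal.Quotient.eq_zero_iff_mem])
  haveI := hq.isPrime
  have hmem : ∀ r, r * x ∈ I → r ∈ q := fun r hr => hqle (by
    rw [Submodule.mem_colon_singleton, Submodule.mem_bot]
    show Ideal.Quotient.mk I (r * x) = 0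
    exact Ideal.Quotient.eq_zero_iff_mem.mpr hr)
  have hcq : c ≤ q := hle.trans (map_mem_associatedPrimes hq).1
  have hmin : q ∈ Ideal.minimalPrimes c := Ideal.mem_minimalPrimes_of_height_le hcq (by rw [hu q hq, hh])
  let π := Ideal.Quotient.mk c
  let Q := q.map π
  haveI hQ : Q.IsPrime := Ideal.map_isPrime_of_surjective Ideal.Quotient.mk_surjective (by rwa [Ideal.mk_ker])
  let B := Localization.AtPrime Q
  haveI : LocCoh.IsGorensteinLocalRing B := LocCoh.IsGorensteinRing.isGorensteinLocalRing_localization Q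
  have hd : ringKrullDim B = 0 := by
    rw [IsLocalization.AtPrime.ringKrullDim_eq_height Q B]
    have : Q.height = 0 := Ideal.height_eq_zero_iff.mpr ⟨⟨hQ, bot_le⟩, fun P hP hPQ => ?_⟩
    · rw [this]; rfl
    · haveI := hP.1
      have h1 : c ≤ P.comap π := fun z hz => by
        rw [Ideal.mem_comap, show π z = 0 from Ideal.Quotient.eq_zero_iff_mem.mpr hz]; exact P.zero_mem
      have h2 : P.comap π ≤ q := fun z hz => (Ideal.mem_quotient_iff_mem hcq).mp (hPQ hz)
      rw [Ideal.map_le_iff_le_comap]
      exact hmin.2 ⟨Ideal.comap_isPrime π P, h1⟩ h2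
  let g := algebraMap (S ⧸ c) B
  have hxB : g (π x) ∈ (I.map π).map g := by
    refine mem_of_annihilator_annihilator (B := B) hd _ fun b hb => ?_
    obtain ⟨⟨a, s⟩, has⟩ := IsLocalization.surj Q.primeCompl b
    obtain ⟨a, rfl⟩ := Ideal.Quotient.mk_surjective a
    obtain ⟨G, hG⟩ := (IsNoetherian.noetherian I : (I : Submodule S S).FG)
    have hzero : ∀ i ∈ G, ∃ t : Q.primeCompl, (t : S ⧸ c) * π (a * i) = 0 := fun i hi => by
      have h1 := hb (g (π i)) (Ideal.mem_map_of_mem g (Ideal.mem_map_of_mem π (hG ▸ Submodule.subset_span hi)))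
      refine (IsLocalization.map_eq_zero_iff Q.primeCompl B _).mp ?_
      show g (π (a * i)) = 0
      rw [map_mul, map_mul]
      exact lc1 has h1
    choose! t ht using hzero
    obtain ⟨T, hT⟩ := Ideal.Quotient.mk_surjective ((∏ i ∈ G, t i : Q.primeCompl) : S ⧸ c)
    have hTa : T * a ∈ c.colon (I : Set S) := by
      rw [Submodule.mem_colon]
      intro i hi
      have hle2 : I ≤ c.colon {T * a} := by
        rw [← hG]
        refine Submodule.span_le.mpr fun j hj => ?_
        rw [SetLike.mem_coe, Submodule.mem_colon_singleton, smul_eq_mul, ← Ideal.Quotient.eq_zero_iff_mem,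
          map_mul, map_mul, hT, ← Finset.mul_prod_erase G t hj, Submonoid.coe_mul]
        have := ht j hj
        simp only [π, map_mul] at this
        linear_combination ((∏ x ∈ G.erase j, t x : Q.primeCompl) : S ⧸ c) * this
      have := hle2 hi
      rw [Submodule.mem_colon_singleton, smul_eq_mul, mul_comm] at this
      exact this
    have hxTa : π (x * (T * a)) = 0 := by
      rw [Submodule.mem_colon] at hx
      exact Ideal.Quotient.eq_zero_iff_mem.mpr (hx _ hTa)
    have hu' : IsUnit (g (π T) * g (s : S ⧸ c)) :=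
      (by rw [show π T = _ from hT]; exact IsLocalization.map_units B _ : IsUnit (g (π T))).mul
        (IsLocalization.map_units B s)
    have h3 : g (π x) * g (π T) * g (π a) = 0 := by
      rw [← map_mul, ← map_mul, ← map_mul, ← map_mul, mul_assoc, hxTa, map_zero]
    refine hu'.mul_left_eq_zero.mp ?_
    exact lc2 h3 has
  rw [IsLocalization.algebraMap_mem_map_algebraMap_iff Q.primeCompl] at hxB
  obtain ⟨m, hm, hmx⟩ := hxB
  obtain ⟨m, rfl⟩ := Ideal.Quotient.mk_surjective m
  have h4 : m * x ∈ I := by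
    rw [← Ideal.mem_quotient_iff_mem hle, map_mul]
    exact hmx
  exact hm (Ideal.mem_map_of_mem π (hmem m h4))

theorem height_doubleLink {J I : Ideal S} (hJI : J ≤ I) {h : ℕ} (hJh : J.height = h) (hIh : I.height = h + 1)
    (f : S) (hJf : J.colon {f} = J) : (J ⊔ Ideal.span {f} * I).height = h + 1 := by
  refine le_antisymm (hIh ▸ Ideal.height_mono (sup_le hJI Ideal.mul_le_right)) ?_
  rw [Ideal.height_eq_inf_minimalPrimes]
  refine le_iInf₂ fun p hp => ?_
  haveI := hp.isPrime
  have hle := hp.le
  by_cases hfp : f ∈ p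
  swap
  · rw [← hIh]
    refine Ideal.height_mono fun i hi => ?_
    refine ((Ideal.IsPrime.mem_or_mem ‹_› (hle (Ideal.mem_sup_right (Ideal.mul_mem_mul
      (Ideal.mem_span_singleton_self f) hi)))).resolve_left hfp)
  obtain ⟨q, hq, hqp⟩ := Ideal.exists_minimalPrimes_le (le_sup_left.trans hle : J ≤ p)
  haveI := hq.isPrime
  have hne : q ≠ p := by
    rintro rfl
    have h1 : f ∈ ⋃ p ∈ associatedPrimes S (S ⧸ J), (p : Set S) :=
      Set.mem_iUnion₂_of_mem (mem_associatedPrimes_of_minimal hq) hfp
    rw [biUnion_associatedPrimes_eq_zero_divisors] at h1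
    obtain ⟨y, hy, hfy⟩ := h1
    obtain ⟨y, rfl⟩ := Ideal.Quotient.mk_surjective y
    refine hy (Ideal.Quotient.eq_zero_iff_mem.mpr ?_)
    rw [← hJf, Submodule.mem_colon_singleton, smul_eq_mul, mul_comm, ← Ideal.Quotient.eq_zero_iff_mem, map_mul]
    rwa [smul_quot, mul_comm, mul_comm] at hfy
  calc (h : ℕ∞) + 1 = J.height + 1 := by rw [hJh]
    _ ≤ q.height + 1 := add_le_add (Ideal.height_mono hq.le) le_rfl
    _ ≤ p.height := Ideal.height_add_one_le_of_lt_of_isPrime (lt_of_le_of_ne hqp hne)

end Groth.Agent.Liaison28
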