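import Mathlib
import Groth.Agent.Liaison28.Double
import Groth.Agent.CAlgH3.CMPolynomial
import Groth.Agent.CommAlg6.QuotRegular

/-!
# Unmixedness of basic double links
-/

set_option autoImplicit false

universe u

open MvPolynomial

namespace Groth.Agent.Liaison28

theorem cm_quotient_regular {A : Type u} [CommRing A] [LocCoh.IsCohenMacaulayRing A] {t : A}
    (ht : t ∈ nonZeroDivisors A) : LocCoh.IsCohenMacaulayRing (A ⧸ Ideal.span {t}) :=
  { (inferInstance : IsNoetherianRing (A ⧸ Ideal.span {t})) with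
    isCohenMacaulayLocalRing_localization := fun P hP => by
      have hmap : (P.comap (Ideal.Quotient.mk (Ideal.span {t}))).map (Ideal.Quotient.mk _) = P :=
        Ideal.map_comap_of_surjective _ Ideal.Quotient.mk_surjective P
      generalize hp : P.comap (Ideal.Quotient.mk (Ideal.span {t})) = p at hmap
      haveI : p.IsPrime := hp ▸ Ideal.comap_isPrime _ P
      subst hmap
      have htp : t ∈ p := by
        rw [← hp, Ideal.mem_comap, Ideal.Quotient.eq_zero_iff_mem.mpr (Ideal.mem_span_singleton_self t)]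
        exact zero_mem _
      obtain ⟨h1, h2, -⟩ := CommAlg6.local_quotient_span p htp ht
      haveI := LocCoh.IsCohenMacaulayRing.isCohenMacaulayLocalRing_localization (R := A) p
      have h3 := (CAlgH3.isCohenMacaulayLocalRing_iff_depth (Localization.AtPrime p)).mp inferInstance
      rw [← h2] at h3
      rw [← h1] at h3
      refine (CAlgH3.isCohenMacaulayLocalRing_iff_depth _).mpr ?_
      generalize ringKrullDim (Localization.AtPrime (p.map (Ideal.Quotient.mk (Ideal.span {t})))) = a at h3 ⊢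
      generalize LocCoh.depth (Localization.AtPrime (p.map (Ideal.Quotient.mk (Ideal.span {t}))))
        (Localization.AtPrime (p.map (Ideal.Quotient.mk (Ideal.span {t})))) = b at h3 ⊢
      rw [WithBot.coe_add] at h3
      induction a using WithBot.recBotCoe with
      | bot =>
        rw [WithBot.bot_add, ← WithBot.coe_add] at h3
        exact absurd h3.symm WithBot.coe_ne_bot
      | coe a =>
        have h4 : a + 1 = b + 1 := by exact_mod_cast h3
        have h5 : a = b := by
          induction a using ENat.recTopCoe <;> induction b using ENat.recTopCoe <;> simp_all [ENat.top_ne_natCast]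
          all_goals exact absurd h4 (by exact_mod_cast ENat.top_ne_natCast _)
        rw [h5] }

theorem cm_sup' {A : Type u} [CommRing A] (J : Ideal A) [LocCoh.IsCohenMacaulayRing (A ⧸ J)] (f : A)
    (hf : Ideal.Quotient.mk J f ∈ nonZeroDivisors (A ⧸ J)) : LocCoh.IsCohenMacaulayRing (A ⧸ (J ⊔ Ideal.span {f})) := by
  haveI h : LocCoh.IsCohenMacaulayRing ((A ⧸ J) ⧸ Ideal.span {Ideal.Quotient.mk J f}) := cm_quotient_regular hf
  have e : ((A ⧸ J) ⧸ Ideal.span {Ideal.Quotient.mk J f}) ≃+* A ⧸ (J ⊔ Ideal.span {f}) :=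
    (Ideal.quotEquivOfEq (by rw [Ideal.map_span, Set.image_singleton])).trans
      (DoubleQuot.quotQuotEquivQuotSup J (Ideal.span {f}))
  exact CAlgH3.isCohenMacaulayRing_of_ringEquiv e

theorem notMem_of_colon {A : Type u} [CommRing A] [IsNoetherianRing A] {J : Ideal A} {f : A} (hJf : J.colon {f} = J)
    {q : Ideal A} (hq : q ∈ associatedPrimes A (A ⧸ J)) : f ∉ q := fun hfq => by
  have h1 : f ∈ ⋃ p ∈ associatedPrimes A (A ⧸ J), (p : Set A) := Set.mem_iUnion₂_of_mem hq hfq
  rw [biUnion_associatedPrimes_eq_zero_divisors] at h1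
  obtain ⟨y, hy, hfy⟩ := h1
  obtain ⟨y, rfl⟩ := Ideal.Quotient.mk_surjective y
  have h2 : Ideal.Quotient.mk J (f * y) = 0 := hfy
  refine hy (Ideal.Quotient.eq_zero_iff_mem.mpr ?_)
  rw [← hJf, Submodule.mem_colon_singleton, smul_eq_mul, mul_comm]
  exact Ideal.Quotient.eq_zero_iff_mem.mp h2

theorem assoc_split {A : Type u} [CommRing A] [IsNoetherianRing A] {J I : Ideal A} (hJI : J ≤ I) {f : A}
    (hJf : J.colon {f} = J) :
    associatedPrimes A (A ⧸ I) ⊆ associatedPrimes A (A ⧸ (J ⊔ Ideal.span {f} * I)) ∧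
      associatedPrimes A (A ⧸ (J ⊔ Ideal.span {f} * I)) ⊆
        associatedPrimes A (A ⧸ I) ∪ associatedPrimes A (A ⧸ (J ⊔ Ideal.span {f})) := by
  set It := J ⊔ Ideal.span {f} * I with hIt
  let φ : A ⧸ I →ₗ[A] A ⧸ It := Submodule.mapQ I It (LinearMap.mulLeft A f) fun i hi =>
    Ideal.mem_sup_right (Ideal.mul_mem_mul (Ideal.mem_span_singleton_self f) hi)
  have hφ : Function.Injective φ := by
    rw [← LinearMap.ker_eq_bot, Submodule.eq_bot_iff]
    intro z hz
    obtain ⟨z, rfl⟩ := Submodule.Quotient.mk_surjective I z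
    rw [LinearMap.mem_ker] at hz
    change (Submodule.Quotient.mk (f * z) : A ⧸ It) = 0 at hz
    rw [Submodule.Quotient.mk_eq_zero, hIt, Submodule.mem_sup] at hz
    obtain ⟨j, hj, w, hw, hjw⟩ := hz
    obtain ⟨i, hi, rfl⟩ := Ideal.mem_span_singleton_mul.mp hw
    rw [Submodule.Quotient.mk_eq_zero]
    have h1 : (z - i) * f ∈ J := by
      rw [show (z - i) * f = j by linear_combination -hjw]
      exact hj
    have h2 : z - i ∈ J := by rw [← hJf, Submodule.mem_colon_singleton, smul_eq_mul]; exact h1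
    simpa using I.add_mem (hJI h2) hi
  refine ⟨associatedPrimes.subset_of_injective hφ, ?_⟩
  let g : A ⧸ It →ₗ[A] A ⧸ (J ⊔ Ideal.span {f}) := Submodule.factor (sup_le_sup_left Ideal.mul_le_left J)
  have hex : Function.Exact φ g := by
    intro z
    obtain ⟨z, rfl⟩ := Submodule.Quotient.mk_surjective It z
    constructor
    · intro hz
      change (Submodule.Quotient.mk z : A ⧸ (J ⊔ Ideal.span {f})) = 0 at hz
      rw [Submodule.Quotient.mk_eq_zero, Submodule.mem_sup] at hz
      obtain ⟨j, hj, w, hw, rfl⟩ := hz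
      obtain ⟨a, rfl⟩ := Ideal.mem_span_singleton'.mp hw
      refine ⟨Submodule.Quotient.mk a, ?_⟩
      change (Submodule.Quotient.mk (f * a) : A ⧸ It) = _
      rw [Submodule.Quotient.eq, show f * a - (j + a * f) = -j by ring]
      exact neg_mem (Ideal.mem_sup_left hj)
    · rintro ⟨a, ha⟩
      obtain ⟨a, rfl⟩ := Submodule.Quotient.mk_surjective I a
      rw [← ha]
      change (Submodule.Quotient.mk (f * a) : A ⧸ (J ⊔ Ideal.span {f})) = 0
      rw [Submodule.Quotient.mk_eq_zero]
      exact Ideal.mem_sup_right (Ideal.mul_mem_right _ _ (Ideal.mem_span_singleton_self f))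
  exact associatedPrimes.subset_union_of_exact hφ hex

variable {K : Type u} [Field K] {n : ℕ}

local notation "S" => MvPolynomial (Fin (n + 1)) K

theorem regular_of_colon {J : Ideal S} {f : S} (hJf : J.colon {f} = J) :
    Ideal.Quotient.mk J f ∈ nonZeroDivisors (S ⧸ J) := by
  rw [mem_nonZeroDivisors_iff_right]
  intro z hz
  obtain ⟨z, rfl⟩ := Ideal.Quotient.mk_surjective z
  rw [← map_mul, Ideal.Quotient.eq_zero_iff_mem] at hz
  rw [Ideal.Quotient.eq_zero_iff_mem, ← hJf, Submodule.mem_colon_singleton, smul_eq_mul]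
  exact hz

theorem cm_sup {J : Ideal S} [LocCoh.IsCohenMacaulayRing (S ⧸ J)] {f : S} (hJf : J.colon {f} = J) :
    LocCoh.IsCohenMacaulayRing (S ⧸ (J ⊔ Ideal.span {f})) := by
  exact cm_sup' J f (regular_of_colon hJf)

theorem height_sup {J : Ideal S} (hJ : J.IsHomogeneous (GrSyz.stdGr K (Fin (n + 1))))
    [LocCoh.IsCohenMacaulayRing (S ⧸ J)] {f : S} (hJf : J.colon {f} = J) {h : ℕ} (hJh : J.height = h)
    (hne : J ⊔ Ideal.span {f} ≠ ⊤) : (J ⊔ Ideal.span {f}).height = h + 1 := by
  obtain ⟨m, hm, hle⟩ := Ideal.exists_le_maximal _ hne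
  haveI := hm.isPrime
  obtain ⟨p, hp, -⟩ := Ideal.exists_minimalPrimes_le hle
  refine le_antisymm ((Ideal.height_mono hp.le).trans ?_) ?_
  · haveI := hp.isPrime
    obtain ⟨q, hq, hqp⟩ := Ideal.exists_minimalPrimes_le (le_sup_left.trans hp.le : J ≤ p)
    haveI := hq.isPrime
    have hp' : p ∈ Ideal.minimalPrimes (q ⊔ Ideal.span {f}) :=
      ⟨⟨inferInstance, sup_le hqp (le_sup_right.trans hp.le)⟩, fun r hr hrp => hp.2
        ⟨hr.1, sup_le ((hq.le.trans le_sup_left).trans hr.2) (le_sup_right.trans hr.2)⟩ hrp⟩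
    have h1 := Ideal.map_height_le_one_of_mem_minimalPrimes hp'
    let P := p.map (Ideal.Quotient.mk q)
    haveI : P.IsPrime := Ideal.map_isPrime_of_surjective Ideal.Quotient.mk_surjective (by rwa [Ideal.mk_ker])
    have e1 := DimLib.height_add_ringKrullDim_quotient (k := K) P
    rw [ringKrullDim_eq_of_ringEquiv (DoubleQuot.quotQuotEquivQuotOfLE hqp)] at e1
    have e2 := DimLib.height_add_ringKrullDim_quotient (k := K) p
    have e3 := DimLib.height_add_ringKrullDim_quotient (k := K) q
    rw [MvPolynomial.ringKrullDim_of_isNoetherianRing, ringKrullDim_eq_zero_of_field, zero_add, Nat.card_fin] at e2 e3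
    rw [← e1] at e3
    have hqh : q.height = h := by rw [height_eq_height hJ (mem_associatedPrimes_of_minimal hq), hJh]
    obtain ⟨b, hb⟩ := ENat.ne_top_iff_exists.1 (Ideal.height_ne_top_of_isPrime (I := p))
    obtain ⟨a, ha⟩ := ENat.ne_top_iff_exists.1 (ne_top_of_le_ne_top (ENat.coe_ne_top 1) h1)
    change P.height ≤ 1 at h1
    rw [← ha] at h1
    rw [← hb]
    rw [hqh, ← ha] at e3
    rw [← hb] at e2
    generalize ringKrullDim (S ⧸ p) = d at e2 e3
    induction d using WithBot.recBotCoe with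
    | bot =>
      rw [WithBot.add_bot] at e2
      exact absurd e2.symm (WithBot.natCast_ne_bot _)
    | coe d =>
      induction d using ENat.recTopCoe with
      | top =>
        rw [← WithBot.coe_add, add_top] at e2
        exact absurd (WithBot.coe_inj.mp e2.symm) (ENat.coe_ne_top _)
      | coe d =>
        have e4 : b + d = n + 1 := by simpa [← WithBot.coe_add, ← Nat.cast_add] using! e2
        have e5 : h + (a + d) = n + 1 := by simpa [← WithBot.coe_add, ← Nat.cast_add] using! e3
        have h1' : a ≤ 1 := by exact_mod_cast h1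
        exact_mod_cast (show b ≤ h + 1 by omega)
  · rw [Ideal.height_eq_inf_minimalPrimes]
    refine le_iInf₂ fun r hr => ?_
    haveI := hr.isPrime
    obtain ⟨q, hq, hqr⟩ := Ideal.exists_minimalPrimes_le (le_sup_left.trans hr.le : J ≤ r)
    haveI := hq.isPrime
    have hne' : q ≠ r := fun hqr' => notMem_of_colon hJf (mem_associatedPrimes_of_minimal hq)
      (hqr' ▸ hr.le (Ideal.mem_sup_right (Ideal.mem_span_singleton_self f)))
    calc (h : ℕ∞) + 1 = J.height + 1 := by rw [hJh]
      _ ≤ q.height + 1 := add_le_add (Ideal.height_mono hq.le) le_rfl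
      _ ≤ r.height := Ideal.height_add_one_le_of_lt_of_isPrime (lt_of_le_of_ne hqr hne')

theorem unmixed_iff {J I : Ideal S} (hJ : J.IsHomogeneous (GrSyz.stdGr K (Fin (n + 1))))
    [LocCoh.IsCohenMacaulayRing (S ⧸ J)] (hJI : J ≤ I) {f : S} (hJf : J.colon {f} = J) {d : ℕ}
    (hf : f ∈ GrSyz.stdGr K (Fin (n + 1)) (d : ℤ)) {h : ℕ} (hJh : J.height = h) :
    (∀ p ∈ associatedPrimes S (S ⧸ I), p.height = (h + 1 : ℕ∞)) ↔
      ∀ p ∈ associatedPrimes S (S ⧸ (J ⊔ Ideal.span {f} * I)), p.height = (h + 1 : ℕ∞) := by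
  obtain ⟨hsub, hunion⟩ := assoc_split hJI hJf
  refine ⟨fun H p hp => ?_, fun H p hp => H p (hsub hp)⟩
  rcases hunion hp with hp' | hp'
  · exact H p hp'
  haveI := cm_sup hJf
  have hne : J ⊔ Ideal.span {f} ≠ ⊤ := fun htop => (IsAssociatedPrime.isPrime hp').ne_top
    (top_le_iff.mp (htop ▸ (map_mem_associatedPrimes hp').1))
  have hhom : (J ⊔ Ideal.span {f}).IsHomogeneous (GrSyz.stdGr K (Fin (n + 1))) :=
    hJ.sup (Ideal.homogeneous_span _ _ (by rintro _ ⟨⟩; exact ⟨_, hf⟩))
  rw [height_eq_height hhom hp', height_sup hJ hJf hJh hne]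

end Groth.Agent.Liaison28
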